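import Mathlib
import Cfsg.Prelude.Def_SporadicB
import Cfsg.Agent.SporadicB.ThreeTrans

set_option autoImplicit false

/-! Basic facts on conjugacy-closed sets and classes of 3-transpositions. -/

namespace Cfsg.Agent.ThreeTrans375.Basic

open Cfsg Cfsg.Agent.SporadicB.ThreeTrans

variable {G : Type*} [Group G] {D : Set G}

/-- the set of members of `D` different from `d` and commuting with `d` -/
def Dc (D : Set G) (d : G) : Set G := {y : G | y ∈ D ∧ y ≠ d ∧ Commute d y}

theorem mem_Dc {d y : G} : y ∈ Dc D d ↔ y ∈ D ∧ y ≠ d ∧ Commute d y := Iff.rfl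

/-- closed under conjugation -/
def ConjClosed (D : Set G) : Prop := ∀ g : G, ∀ d ∈ D, g * d * g⁻¹ ∈ D

theorem conjClosed_of_class (hD : IsThreeTranspositionClass D) : ConjClosed D := by
  obtain ⟨_, ⟨d₀, _, hD₀⟩, _⟩ := hD
  intro g d hd
  rw [hD₀] at hd ⊢
  have hd' : IsConj d₀ d := hd
  exact hd'.trans (isConj_iff.2 ⟨g, rfl⟩)

theorem exists_conj_of_class (hD : IsThreeTranspositionClass D) {a b : G} (ha : a ∈ D) (hb : b ∈ D) :
    ∃ g : G, g * a * g⁻¹ = b := by
  obtain ⟨_, ⟨d₀, _, hD₀⟩, _⟩ := hD
  rw [hD₀] at ha hb
  have ha' : IsConj d₀ a := ha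
  have hb' : IsConj d₀ b := hb
  exact isConj_iff.1 (ha'.symm.trans hb')

theorem conj_mem {g d : G} (hN : ConjClosed D) (hd : d ∈ D) : g * d * g⁻¹ ∈ D := hN g d hd

theorem third_mem (hE : IsThreeTranspositionSet D) (hN : ConjClosed D) {a b : G} (ha : a ∈ D)
    (hb : b ∈ D) : a * b * a ∈ D := by
  have := hN a b hb
  rwa [inv_eq hE ha] at this

theorem commute_conj_iff {a b : G} (g : G) :
    Commute (g * a * g⁻¹) (g * b * g⁻¹) ↔ Commute a b := by
  constructor
  · intro h
    have h1 : (g * a * g⁻¹) * (g * b * g⁻¹) = (g * b * g⁻¹) * (g * a * g⁻¹) := h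
    have h2 : g * (a * b) * g⁻¹ = g * (b * a) * g⁻¹ := by
      calc g * (a * b) * g⁻¹ = (g * a * g⁻¹) * (g * b * g⁻¹) := by group
        _ = (g * b * g⁻¹) * (g * a * g⁻¹) := h1
        _ = g * (b * a) * g⁻¹ := by group
    exact mul_left_cancel (mul_right_cancel h2)
  · intro h
    show (g * a * g⁻¹) * (g * b * g⁻¹) = (g * b * g⁻¹) * (g * a * g⁻¹)
    calc (g * a * g⁻¹) * (g * b * g⁻¹) = g * (a * b) * g⁻¹ := by group
      _ = g * (b * a) * g⁻¹ := by rw [h.eq]
      _ = (g * b * g⁻¹) * (g * a * g⁻¹) := by group

theorem conj_eq_self_iff {g a : G} : g * a * g⁻¹ = a ↔ Commute g a := by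
  rw [mul_inv_eq_iff_eq_mul]
  exact Iff.rfl

/-- If `a`, `b` do not commute then `a` does not commute with the third element `a b a`. -/
theorem not_commute_third (hE : IsThreeTranspositionSet D) {a b : G} (ha : a ∈ D)
    (h : ¬ Commute a b) : ¬ Commute a (a * b * a) := by
  intro h1
  apply h
  have h2 : a * (a * b * a) * a⁻¹ = a * b * a := conj_eq_self_iff.2 h1
  have ha2 := mul_self hE ha
  rw [inv_eq hE ha] at h2
  have h3 : a * (a * b * a) * a = b := by
    calc a * (a * b * a) * a = (a * a) * b * (a * a) := by simp only [mul_assoc]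
      _ = b := by rw [ha2, one_mul, mul_one]
  rw [h3] at h2
  -- b = a b a
  show a * b = b * a
  calc a * b = a * b * (a * a) := by rw [ha2, mul_one]
    _ = (a * b * a) * a := by simp only [mul_assoc]
    _ = b * a := by rw [← h2]

theorem not_commute_third' (hE : IsThreeTranspositionSet D) {a b : G} (ha : a ∈ D) (hb : b ∈ D)
    (h : ¬ Commute a b) : ¬ Commute b (a * b * a) := by
  rw [braid hE ha hb h]
  exact not_commute_third hE hb (fun h' => h h'.symm)

/-- If `c` commutes with `a` but not with `b` then it does not commute with `a b a`. -/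
theorem not_commute_of_commute (hE : IsThreeTranspositionSet D) {a b c : G} (ha : a ∈ D)
    (hca : Commute c a) (hcb : ¬ Commute c b) : ¬ Commute c (a * b * a) := by
  intro h
  apply hcb
  have ha2 := mul_self hE ha
  have h1 : b = a * (a * b * a) * a := by
    calc b = (a * a) * b * (a * a) := by rw [ha2, one_mul, mul_one]
      _ = a * (a * b * a) * a := by simp only [mul_assoc]
  rw [h1]
  exact (hca.mul_right h).mul_right hca

/-- If `c` commutes with `a` and `b` then with `a b a`. -/
theorem commute_third {a b c : G} (hca : Commute c a) (hcb : Commute c b) :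
    Commute c (a * b * a) := (hca.mul_right hcb).mul_right hca

/-- noncommuting members are conjugate by their product -/
theorem conj_of_not_commute (hE : IsThreeTranspositionSet D) {u v : G} (hu : u ∈ D) (hv : v ∈ D)
    (h : ¬ Commute u v) : (u * v) * u * (u * v)⁻¹ = v := by
  have hb := braid hE hu hv h
  rw [mul_inv_rev, inv_eq hE hu, inv_eq hE hv]
  calc u * v * u * (v * u) = u * v * u * v * u := by simp only [mul_assoc]
    _ = (v * u * v) * v * u := by rw [hb]
    _ = v * u * (v * v) * u := by simp only [mul_assoc]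
    _ = v * (u * u) := by rw [mul_self hE hv, mul_one, mul_assoc]
    _ = v := by rw [mul_self hE hu, mul_one]

/-- Closure of a subset of `D` under conjugation by members of `D` is all of `D` -/
theorem subset_of_closed (hD : IsThreeTranspositionClass D) {S : Set G} {a : G} (haD : a ∈ D)
    (haS : a ∈ S) (hS : ∀ x ∈ S, ∀ d ∈ D, d * x * d ∈ S) : D ⊆ S := by
  have hE := hD.1
  have key : ∀ g ∈ Subgroup.closure D, ∀ x ∈ S, g * x * g⁻¹ ∈ S := by
    intro g hg
    induction hg using Subgroup.closure_induction with
    | mem d hd =>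
      intro x hx
      have := hS x hx d hd
      rwa [inv_eq hE hd]
    | one => intro x hx; simpa using hx
    | mul g h _ _ ihg ihh =>
      intro x hx
      have := ihg _ (ihh x hx)
      have e : g * (h * x * h⁻¹) * g⁻¹ = g * h * x * (g * h)⁻¹ := by group
      rwa [e] at this
    | inv g hg ih =>
      intro x hx
      -- the inverse is a product of members of D in the opposite order: use that closure is
      -- generated as a monoid because members are involutions
      exact (by
        have hinv : ∀ g ∈ Subgroup.closure D, ∀ x ∈ S, g⁻¹ * x * g ∈ S := by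
          intro g hg
          induction hg using Subgroup.closure_induction'' with
          | mem d hd =>
            intro x hx
            have := hS x hx d hd
            rwa [inv_eq hE hd]
          | inv_mem d hd =>
            intro x hx
            have := hS x hx d hd
            rw [inv_eq hE hd, inv_eq hE hd]
            exact this
          | one => intro x hx; simpa using hx
          | mul g h _ _ ihg ihh =>
            intro x hx
            have := ihh _ (ihg x hx)
            have e : h⁻¹ * (g⁻¹ * x * g) * h = (g * h)⁻¹ * x * (g * h) := by group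
            rwa [e] at this
        have := hinv g hg x hx
        rwa [inv_inv])
  intro b hb
  obtain ⟨g, rfl⟩ := exists_conj_of_class hD haD hb
  exact key g (by rw [hD.2.2]; exact Subgroup.mem_top g) a haS

/-- The noncommuting graph on a class has diameter at most two. -/
theorem exists_not_commute (hD : IsThreeTranspositionClass D) {a c : G} (ha : a ∈ D) (hc : c ∈ D)
    (hac : a ≠ c) (hcomm : Commute a c) : ∃ z ∈ D, ¬ Commute a z ∧ ¬ Commute c z := by
  have hE := hD.1
  have hN := conjClosed_of_class hD
  let S : Set G := {x | x ∈ D ∧ (x = a ∨ ¬ Commute a x ∨ ∃ z ∈ D, ¬ Commute a z ∧ ¬ Commute z x)}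
  have hDS : D ⊆ S := by
    apply subset_of_closed hD ha (S := S) ⟨ha, Or.inl rfl⟩
    rintro x ⟨hxD, hx⟩ d hd
    refine ⟨third_mem hE hN hd hxD, ?_⟩
    by_cases hdx : Commute d x
    · have : d * x * d = x := by rw [hdx.eq, mul_assoc, mul_self hE hd, mul_one]
      rw [this]; exact hx
    have hy : d * x * d = x * d * x := braid hE hd hxD hdx
    have hyx : ¬ Commute x (d * x * d) := not_commute_third' hE hd hxD hdx
    have hyd : ¬ Commute d (d * x * d) := not_commute_third hE hd hdx
    by_cases hay : Commute a (d * x * d)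
    swap
    · exact Or.inr (Or.inl hay)
    by_cases hax : Commute a x
    swap
    · exact Or.inr (Or.inr ⟨x, hxD, hax, hyx⟩)
    rcases hx with hx | hx | hx
    · exact absurd (hx ▸ hay) hyx
    · exact absurd hax hx
    · obtain ⟨z, hzD, haz, hzx⟩ := hx
      by_cases hzy : Commute z (d * x * d)
      swap
      · exact Or.inr (Or.inr ⟨z, hzD, haz, hzy⟩)
      · -- use w = x z x
        refine Or.inr (Or.inr ⟨x * z * x, third_mem hE hN hxD hzD,
          not_commute_of_commute hE hxD hax haz, ?_⟩)
        intro hw
        have h1 : ¬ Commute (d * x * d) (z * x * z) :=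
          not_commute_of_commute hE hzD hzy.symm (fun h => hyx h.symm)
        rw [braid hE hxD hzD (fun h => hzx h.symm)] at hw
        exact h1 hw.symm
  obtain ⟨_, h⟩ := hDS hc
  rcases h with h | h | h
  · exact absurd h.symm hac
  · exact absurd hcomm h
  · obtain ⟨z, hz, h1, h2⟩ := h
    exact ⟨z, hz, h1, fun h' => h2 h'.symm⟩

end Cfsg.Agent.ThreeTrans375.Basic
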