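import Mathlib

set_option autoImplicit false

/-! A finite group in which every element satisfies `q ^ 2 = 1` or `q ^ 3 = 1` is solvable. -/

namespace Cfsg.Agent.ThreeTrans375.Solv23

theorem solvable_of_cube {Q : Type*} [Group Q] [Finite Q] (h : ∀ q : Q, q ^ 3 = 1) : Group.IsSolvable Q := by
  have : Fact (Nat.Prime 3) := ⟨Nat.prime_three⟩
  have hp : IsPGroup 3 Q := fun g => ⟨1, by simpa using h g⟩
  have := hp.isNilpotent
  infer_instance

theorem solvable_of_pow {Q : Type*} [Group Q] [Finite Q] (h : ∀ q : Q, q ^ 2 = 1 ∨ q ^ 3 = 1) :
    Group.IsSolvable Q := by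
  classical
  -- centralizers of involutions consist of elements of square one
  have h1 : ∀ t : Q, t ≠ 1 → t ^ 2 = 1 → ∀ c : Q, Commute c t → c ^ 2 = 1 := by
    intro t ht ht2 c hct
    rcases h c with h2 | h2
    · exact h2
    rcases h (c * t) with h3 | h3
    · rw [hct.mul_pow, ht2, mul_one] at h3
      exact h3
    · rw [hct.mul_pow, h2, one_mul] at h3
      exfalso
      apply ht
      have : t ^ 3 = t := by rw [pow_succ, ht2, one_mul]
      rw [← this, h3]
  have hcomm2 : ∀ a b : Q, a ^ 2 = 1 → b ^ 2 = 1 → (a * b) ^ 2 = 1 → Commute a b := by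
    intro a b ha hb hab
    have ha' : a⁻¹ = a := by rw [inv_eq_iff_mul_eq_one, ← pow_two, ha]
    have hb' : b⁻¹ = b := by rw [inv_eq_iff_mul_eq_one, ← pow_two, hb]
    have hab' : (a * b)⁻¹ = a * b := by rw [inv_eq_iff_mul_eq_one, ← pow_two, hab]
    show a * b = b * a
    rw [← hab', mul_inv_rev, ha', hb']
  -- two commuting distinct involutions `s t` and an involution `u` not commuting with `s`
  have key : ∀ s t u : Q, s ≠ 1 → t ≠ 1 → s ≠ t → s ^ 2 = 1 → t ^ 2 = 1 → u ^ 2 = 1 → Commute s t →
      Commute u s := by
    intro s t u hs ht hst hs2 ht2 hu2 hc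
    by_contra hus
    have hinv : ∀ x : Q, x ^ 2 = 1 → x⁻¹ = x := by
      intro x hx; rw [inv_eq_iff_mul_eq_one, ← pow_two, hx]
    have hu1 : u ≠ 1 := by rintro rfl; exact hus (Commute.one_left s)
    -- u does not commute with t
    have hut : ¬ Commute u t := by
      intro hut
      -- t commutes with s and u, so s, u, su all in C(t): squares are one
      have h2 : (u * s) ^ 2 = 1 := h1 t ht ht2 (u * s) (hut.mul_left hc)
      exact hus (hcomm2 u s hu2 hs2 h2)
    have hst1 : s * t ≠ 1 := by
      intro h2
      apply hst
      rw [mul_eq_one_iff_eq_inv, hinv t ht2] at h2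
      exact h2
    have hst2 : (s * t) ^ 2 = 1 := by rw [hc.mul_pow, hs2, ht2, one_mul]
    have hust : ¬ Commute u (s * t) := by
      intro hust
      have hc' : Commute (s * t) s := by
        show s * t * s = s * (s * t)
        rw [mul_assoc, ← hc.eq]
      have h2 : (u * s) ^ 2 = 1 := h1 (s * t) hst1 hst2 (u * s) (hust.mul_left hc'.symm)
      exact hus (hcomm2 u s hu2 hs2 h2)
    have braid : ∀ x : Q, x ^ 2 = 1 → ¬ Commute u x → u * x * u = x * u * x := by
      intro x hx hux
      rcases h (u * x) with h2 | h2
      · exact absurd (hcomm2 u x hu2 hx h2) hux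
      · have h3 : u * x * u * (x * u * x) = 1 := by
          have : u * x * u * (x * u * x) = (u * x) ^ 3 := by
            rw [pow_succ, pow_two]; simp only [mul_assoc]
          rw [this, h2]
        rw [eq_inv_of_mul_eq_one_left h3, mul_inv_rev, mul_inv_rev, hinv x hx, hinv u hu2, mul_assoc]
    have b1 := braid s hs2 hus
    have b2 := braid t ht2 hut
    have b3 := braid (s * t) hst2 hust
    have huu : u * u = 1 := by rw [← pow_two]; exact hu2
    have hss : s * s = 1 := by rw [← pow_two]; exact hs2
    have htt : t * t = 1 := by rw [← pow_two]; exact ht2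
    -- s u s t u t = u s t u = s t u s t
    have e1 : s * u * s * (t * u * t) = s * t * u * (s * t) := by
      calc s * u * s * (t * u * t) = (u * s * u) * (u * t * u) := by rw [b1, b2]
        _ = u * s * (u * u) * t * u := by simp only [mul_assoc]
        _ = u * (s * t) * u := by rw [huu, mul_one]; simp only [mul_assoc]
        _ = s * t * u * (s * t) := b3
    -- cancel s on the left, t on the right: u s t u = t u s
    have e2 : u * (s * t) * u = t * u * s := by
      have e3 : s * (u * (s * t) * u) * t = s * (t * u * s) * t := by
        calc s * (u * (s * t) * u) * t = s * u * s * (t * u * t) := by simp only [mul_assoc]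
          _ = s * t * u * (s * t) := e1
          _ = s * (t * u * s) * t := by simp only [mul_assoc]
      exact mul_left_cancel (mul_right_cancel e3)
    rw [b3] at e2
    -- s t u s t = t u s, and s t = t s: t s u s t = t u s => s u s t = u s => u s u t = u s => s u t = s
    have e4 : t * (s * u * s * t) = t * (u * s) := by
      calc t * (s * u * s * t) = (t * s) * u * (s * t) := by simp only [mul_assoc]
        _ = (s * t) * u * (s * t) := by rw [hc.eq]
        _ = t * u * s := e2
        _ = t * (u * s) := by rw [mul_assoc]
    have e5 := mul_left_cancel e4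
    rw [← b1] at e5
    have e6 : u * s * (u * t) = u * s * 1 := by
      calc u * s * (u * t) = u * s * u * t := by simp only [mul_assoc]
        _ = u * s * 1 := by rw [e5, mul_one]
    have e7 := mul_left_cancel e6
    have e8 : u = t := by
      rw [mul_eq_one_iff_eq_inv, hinv t ht2] at e7
      exact e7
    exact hut (e8 ▸ Commute.refl u)
  by_cases hI : ∃ s t : Q, s ≠ 1 ∧ t ≠ 1 ∧ s ≠ t ∧ s ^ 2 = 1 ∧ t ^ 2 = 1 ∧ Commute s t
  · -- all involutions commute
    obtain ⟨s, t, hs, ht, hst, hs2, ht2, hc⟩ := hI
    have hall : ∀ u v : Q, u ^ 2 = 1 → v ^ 2 = 1 → Commute u v := by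
      intro u v hu hv
      have hus := key s t u hs ht hst hs2 ht2 hu hc
      have hvs := key s t v hs ht hst hs2 ht2 hv hc
      have h2 : (u * v) ^ 2 = 1 := h1 s hs hs2 (u * v) (hus.mul_left hvs)
      exact hcomm2 u v hu hv h2
    let A : Subgroup Q :=
      { carrier := {q | q ^ 2 = 1}
        mul_mem' := by
          intro a b ha hb
          show (a * b) ^ 2 = 1
          have ha' : a ^ 2 = 1 := ha
          have hb' : b ^ 2 = 1 := hb
          rw [(hall a b ha hb).mul_pow, ha', hb', one_mul]
        one_mem' := one_pow 2
        inv_mem' := by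
          intro a ha
          show a⁻¹ ^ 2 = 1
          have ha' : a ^ 2 = 1 := ha
          rw [inv_pow, ha', inv_one] }
    have hAn : A.Normal := ⟨by
      intro a ha g
      show (g * a * g⁻¹) ^ 2 = 1
      have ha' : a ^ 2 = 1 := ha
      rw [conj_pow, ha']; group⟩
    have hA : Group.IsSolvable A := Group.isSolvable_of_comm fun a b => by
      apply Subtype.ext
      exact (hall a b a.2 b.2).eq
    have hQA : Group.IsSolvable (Q ⧸ A) := by
      apply solvable_of_cube
      intro q
      induction q using QuotientGroup.induction_on with
      | H q =>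
        rcases h q with h2 | h2
        · have : (q : Q ⧸ A) = 1 := (QuotientGroup.eq_one_iff q).2 h2
          rw [this, one_pow]
        · rw [← QuotientGroup.mk_pow, h2]; rfl
    exact Group.isSolvable_of_ker_le_range A.subtype (QuotientGroup.mk' A)
      (by rw [QuotientGroup.ker_mk', Subgroup.range_subtype])
  · push Not at hI
    by_cases hT : ∃ t : Q, t ≠ 1 ∧ t ^ 2 = 1
    swap
    · push Not at hT
      apply solvable_of_cube
      intro q
      rcases h q with h2 | h2
      · have : q = 1 := by
          by_contra h3
          exact hT q h3 h2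
        rw [this, one_pow]
      · exact h2
    · obtain ⟨t, ht, ht2⟩ := hT
      have : Fact (Nat.Prime 2) := ⟨Nat.prime_two⟩
      -- centralizer of t is {1, t}
      have hcent : ∀ c : Q, Commute c t → c = 1 ∨ c = t := by
        intro c hc
        by_contra h3
        push Not at h3
        have hc2 := h1 t ht ht2 c hc
        exact hI c t h3.1 ht h3.2 hc2 ht2 hc
      -- a Sylow 2-subgroup containing t
      have hP2 : IsPGroup 2 (Subgroup.zpowers t) := by
        rw [IsPGroup.iff_card]
        refine ⟨1, ?_⟩
        rw [Nat.card_zpowers, pow_one]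
        exact orderOf_eq_prime ht2 ht
      obtain ⟨P, hP⟩ := hP2.exists_le_sylow
      have htP : t ∈ P := hP (Subgroup.mem_zpowers t)
      have hPel : ∀ x ∈ P, x = 1 ∨ x = t := by
        intro x hx
        have hxp : x ^ 2 = 1 := by
          rcases h x with h2 | h2
          · exact h2
          · obtain ⟨k, hk⟩ := P.2 ⟨x, hx⟩
            have hk' : x ^ (2 ^ k) = 1 := by
              have := congrArg Subtype.val hk
              simpa using this
            have h3 : orderOf x ∣ 3 := orderOf_dvd_of_pow_eq_one h2
            have h4 : orderOf x ∣ 2 ^ k := orderOf_dvd_of_pow_eq_one hk'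
            have h5 : orderOf x ∣ Nat.gcd 3 (2 ^ k) := Nat.dvd_gcd h3 h4
            have h6 : Nat.gcd 3 (2 ^ k) = 1 := Nat.Coprime.pow_right k (by norm_num)
            rw [h6, Nat.dvd_one, orderOf_eq_one_iff] at h5
            rw [h5, one_pow]
        by_cases hx1 : x = 1
        · exact Or.inl hx1
        -- x t is in P, of order a power of two
        have hxt : (x * t) ^ 2 = 1 := by
          have hxtP : x * t ∈ P := P.mul_mem hx htP
          rcases h (x * t) with h2 | h2
          · exact h2
          · obtain ⟨k, hk⟩ := P.2 ⟨x * t, hxtP⟩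
            have hk' : (x * t) ^ (2 ^ k) = 1 := by
              have := congrArg Subtype.val hk
              simpa using this
            have h3 : orderOf (x * t) ∣ 3 := orderOf_dvd_of_pow_eq_one h2
            have h4 : orderOf (x * t) ∣ 2 ^ k := orderOf_dvd_of_pow_eq_one hk'
            have h5 : orderOf (x * t) ∣ Nat.gcd 3 (2 ^ k) := Nat.dvd_gcd h3 h4
            have h6 : Nat.gcd 3 (2 ^ k) = 1 := Nat.Coprime.pow_right k (by norm_num)
            rw [h6, Nat.dvd_one, orderOf_eq_one_iff] at h5
            rw [h5, one_pow]
        exact hcent x (hcomm2 x t hxp ht2 hxt)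
      have hN : Subgroup.normalizer (P : Set Q) ≤ Subgroup.centralizer (P : Set Q) := by
        intro g hg
        rw [Subgroup.mem_centralizer_iff]
        intro x hx
        rcases hPel x hx with rfl | rfl
        · simp
        · have h2 : g * x * g⁻¹ ∈ P := (Subgroup.mem_normalizer_iff.1 hg x).1 hx
          rcases hPel _ h2 with h3 | h3
          · exfalso; apply ht
            have : x = g⁻¹ * (g * x * g⁻¹) * g := by group
            rw [this, h3]; group
          · rw [mul_inv_eq_iff_eq_mul] at h3
            exact h3.symm
      have hcompl := MonoidHom.ker_transferSylow_isComplement' P hN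
      set K := (MonoidHom.transferSylow P hN).ker with hK
      have hKsol : Group.IsSolvable K := by
        apply solvable_of_cube
        intro k
        rcases h (k : Q) with h2 | h2
        · -- k is a 2-element of K: conjugate into P
          apply Subtype.ext
          have hk1 : (k : Q) = 1 := by
            by_contra hk
            have hkP : IsPGroup 2 (Subgroup.zpowers (k : Q)) := by
              rw [IsPGroup.iff_card]
              refine ⟨1, ?_⟩
              rw [Nat.card_zpowers, pow_one]
              exact orderOf_eq_prime h2 hk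
            obtain ⟨P', hP'⟩ := hkP.exists_le_sylow
            obtain ⟨g, hg⟩ := MulAction.exists_smul_eq Q P' P
            have h3 : g * (k : Q) * g⁻¹ ∈ P := by
              rw [← hg]
              have : (k : Q) ∈ P' := hP' (Subgroup.mem_zpowers _)
              exact Subgroup.smul_mem_pointwise_smul _ (MulAut.conj g) _ this
            have h4 : g * (k : Q) * g⁻¹ ∈ K := (MonoidHom.normal_ker _).conj_mem _ k.2 g
            have h5 : g * (k : Q) * g⁻¹ = 1 := by
              have h6 := hcompl.disjoint
              rw [Subgroup.disjoint_def] at h6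
              exact h6 h4 h3
            apply hk
            have : (k : Q) = g⁻¹ * (g * (k : Q) * g⁻¹) * g := by group
            rw [this, h5]; group
          rw [Subgroup.coe_pow, hk1]; simp
        · apply Subtype.ext
          simpa using h2
      have hPsol : Group.IsSolvable P := by
        have : Group.IsNilpotent P := P.2.isNilpotent
        infer_instance
      exact Group.isSolvable_of_ker_le_range K.subtype (MonoidHom.transferSylow P hN)
        (by rw [Subgroup.range_subtype])

end Cfsg.Agent.ThreeTrans375.Solv23
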