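import Mathlib
import Cfsg.Prelude.Def_SporadicB
import Cfsg.Agent.SporadicB.ThreeTrans
import Cfsg.Agent.ThreeTrans375.Basic
import Cfsg.Agent.ThreeTrans375.Blocks

set_option autoImplicit false

/-! Fischer's transitivity theorem: in a 3-transposition group without nontrivial solvable normal subgroups the
members of `D` commuting with `x` and different from `x` form one class of the group they generate. -/

namespace Cfsg.Agent.ThreeTrans375.Transitive

open Cfsg Cfsg.Agent.SporadicB.ThreeTrans Cfsg.Agent.ThreeTrans375.Basic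
  Cfsg.Agent.ThreeTrans375.Blocks

variable {G : Type*} [Group G]

/-- connectedness in the noncommuting graph on `S` -/
def Conn (S : Set G) : G → G → Prop :=
  Relation.ReflTransGen (fun u v => v ∈ S ∧ ¬ Commute u v)

/-- component of `x` in the noncommuting graph on `S` -/
def comp (S : Set G) (x : G) : Set G := {y | Conn S x y}

theorem mem_comp {S : Set G} {x y : G} : y ∈ comp S x ↔ Conn S x y := Iff.rfl

theorem self_mem_comp {S : Set G} {x : G} : x ∈ comp S x := Relation.ReflTransGen.refl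

theorem comp_subset {S : Set G} {x : G} (hx : x ∈ S) : comp S x ⊆ S := by
  intro y hy
  induction hy with
  | refl => exact hx
  | tail _ h _ => exact h.1

theorem conn_symm {S : Set G} {x y : G} (hx : x ∈ S) (h : Conn S x y) : Conn S y x := by
  induction h with
  | refl => exact Relation.ReflTransGen.refl
  | tail h1 h2 ih =>
    exact Relation.ReflTransGen.head ⟨comp_subset hx h1, fun h => h2.2 h.symm⟩ ih

theorem comp_eq {S : Set G} {x y : G} (hx : x ∈ S) (hy : y ∈ comp S x) : comp S y = comp S x := by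
  ext z
  constructor
  · intro hz
    exact Relation.ReflTransGen.trans hy hz
  · intro hz
    exact Relation.ReflTransGen.trans (conn_symm hx hy) hz

theorem mem_comp_of_not_commute {S : Set G} {x y z : G} (hy : y ∈ comp S x) (hz : z ∈ S)
    (h : ¬ Commute y z) : z ∈ comp S x := Relation.ReflTransGen.tail hy ⟨hz, h⟩

theorem comp_subset_comp {S S' : Set G} {x : G} (h : comp S x ⊆ S') : comp S x ⊆ comp S' x := by
  intro y hy
  have hy' : Conn S x y := hy
  show Conn S' x y
  clear hy
  induction hy' with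
  | refl => exact Relation.ReflTransGen.refl
  | tail h1 h2 ih => exact Relation.ReflTransGen.tail ih ⟨h (Relation.ReflTransGen.tail h1 h2), h2.2⟩

/-- set of components -/
def comps (S : Set G) : Set (Set G) := {C | ∃ x ∈ S, C = comp S x}

theorem comp_mem_comps {S : Set G} {x : G} (hx : x ∈ S) : comp S x ∈ comps S := ⟨x, hx, rfl⟩

theorem eq_comp_of_mem {S : Set G} {C : Set G} (hC : C ∈ comps S) {y : G} (hy : y ∈ C) :
    C = comp S y := by
  obtain ⟨x, hx, rfl⟩ := hC
  exact (comp_eq hx hy).symm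

theorem subset_of_mem_comps {S : Set G} {C : Set G} (hC : C ∈ comps S) : C ⊆ S := by
  obtain ⟨x, hx, rfl⟩ := hC
  exact comp_subset hx

theorem nonempty_of_mem_comps {S : Set G} {C : Set G} (hC : C ∈ comps S) : C.Nonempty := by
  obtain ⟨x, _, rfl⟩ := hC
  exact ⟨x, self_mem_comp⟩

/-- conjugation map -/
def cj (g : G) (x : G) : G := g * x * g⁻¹

theorem cj_injective (g : G) : Function.Injective (cj g) := by
  intro x y h
  exact mul_left_cancel (mul_right_cancel h)

theorem cj_cj_inv (g x : G) : cj g (cj g⁻¹ x) = x := by unfold cj; group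

theorem cj_inv_cj (g x : G) : cj g⁻¹ (cj g x) = x := by unfold cj; group

theorem conn_image {S : Set G} (g : G) {x y : G} (h : Conn S x y) :
    Conn (cj g '' S) (cj g x) (cj g y) := by
  induction h with
  | refl => exact Relation.ReflTransGen.refl
  | @tail a b _ hab ih =>
    exact Relation.ReflTransGen.tail ih
      ⟨⟨b, hab.1, rfl⟩, fun h => hab.2 ((commute_conj_iff g).1 h)⟩

theorem comp_image {S : Set G} (g x : G) : comp (cj g '' S) (cj g x) = cj g '' comp S x := by
  ext y
  constructor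
  · intro hy
    have h1 := conn_image g⁻¹ (mem_comp.1 hy)
    have h2 : cj g⁻¹ '' (cj g '' S) = S := by
      rw [Set.image_image]
      simp [cj_inv_cj]
    rw [h2, cj_inv_cj] at h1
    exact ⟨cj g⁻¹ y, h1, cj_cj_inv g y⟩
  · rintro ⟨z, hz, rfl⟩
    exact conn_image g hz

theorem comps_image {S : Set G} (g : G) : comps (cj g '' S) = (fun C => cj g '' C) '' comps S := by
  ext C
  constructor
  · rintro ⟨x, ⟨y, hy, rfl⟩, rfl⟩
    exact ⟨comp S y, ⟨y, hy, rfl⟩, (comp_image g y).symm⟩
  · rintro ⟨C, ⟨x, hx, rfl⟩, rfl⟩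
    exact ⟨cj g x, ⟨x, hx, rfl⟩, (comp_image g x).symm⟩

theorem Dc_image {D : Set G} (hN : ConjClosed D) (g d : G) : Dc D (cj g d) = cj g '' Dc D d := by
  ext x
  constructor
  · rintro ⟨hxD, hxc, hxcomm⟩
    refine ⟨cj g⁻¹ x, ⟨hN g⁻¹ x hxD, ?_, ?_⟩, cj_cj_inv g x⟩
    · intro h; apply hxc; rw [← h, cj_cj_inv]
    · rw [← commute_conj_iff g]
      have : g * cj g⁻¹ x * g⁻¹ = x := cj_cj_inv g x
      rw [this]; exact hxcomm
  · rintro ⟨y, ⟨hyD, hyc, hycomm⟩, rfl⟩
    exact ⟨hN g y hyD, fun h => hyc (cj_injective g h), (commute_conj_iff g).2 hycomm⟩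

variable {D : Set G}

theorem mem_Dc_symm {d e : G} (hd : d ∈ D) (he : e ∈ Dc D d) : d ∈ Dc D e :=
  ⟨hd, fun h => he.2.1 h.symm, he.2.2.symm⟩

theorem ncard_Dc_eq [Finite G] (hD : IsThreeTranspositionClass D) {d e : G} (hd : d ∈ D) (he : e ∈ D) :
    (Dc D d).ncard = (Dc D e).ncard := by
  obtain ⟨g, hg⟩ := exists_conj_of_class hD hd he
  have : e = cj g d := hg.symm
  rw [this, Dc_image (conjClosed_of_class hD), Set.ncard_image_of_injective _ (cj_injective g)]

theorem ncard_comps_eq [Finite G] (hD : IsThreeTranspositionClass D) {d e : G} (hd : d ∈ D) (he : e ∈ D) :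
    (comps (Dc D d)).ncard = (comps (Dc D e)).ncard := by
  obtain ⟨g, hg⟩ := exists_conj_of_class hD hd he
  have : e = cj g d := hg.symm
  rw [this, Dc_image (conjClosed_of_class hD), comps_image, Set.ncard_image_of_injective]
  exact Set.image_injective.2 (cj_injective g)

theorem ncard_diff_eq [Finite G] (hD : IsThreeTranspositionClass D) {d e : G} (hd : d ∈ D) (he : e ∈ D) :
    (comps (Dc D d) \ comps (Dc D e)).ncard = (comps (Dc D e) \ comps (Dc D d)).ncard := by
  have h1 := Set.ncard_inter_add_ncard_sdiff_eq_ncard (comps (Dc D d)) (comps (Dc D e)) (Set.toFinite _)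
  have h2 := Set.ncard_inter_add_ncard_sdiff_eq_ncard (comps (Dc D e)) (comps (Dc D d)) (Set.toFinite _)
  rw [ncard_comps_eq hD hd he] at h1
  rw [Set.inter_comm] at h2
  omega

/-- Lemma A -/
theorem subset_or_mem {d e : G} (hd : d ∈ D) (he : e ∈ Dc D d) {Y : Set G}
    (hY : Y ∈ comps (Dc D d)) (heY : e ∉ Y) : Y ⊆ comp (Dc D e) d ∨ Y ∈ comps (Dc D e) := by
  obtain ⟨y, hy, rfl⟩ := hY
  have hde := mem_Dc_symm hd he
  have h1 : comp (Dc D d) y ⊆ Dc D e := by
    intro u hu
    have hud := comp_subset hy hu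
    refine ⟨hud.1, ?_, ?_⟩
    · rintro rfl; exact heY hu
    · by_contra h
      exact heY (mem_comp_of_not_commute hu he (fun h' => h h'.symm))
  have h2 := comp_subset_comp h1
  have hye : y ∈ Dc D e := h1 self_mem_comp
  by_cases hdY : d ∈ comp (Dc D e) y
  · left
    rw [comp_eq hye hdY]
    exact h2
  · right
    have h3 : comp (Dc D e) y ⊆ Dc D d := by
      intro u hu
      have hue := comp_subset hye hu
      refine ⟨hue.1, ?_, ?_⟩
      · rintro rfl; exact hdY hu
      · by_contra h
        exact hdY (mem_comp_of_not_commute hu hde (fun h' => h h'.symm))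
    have h4 := comp_subset_comp h3
    exact ⟨y, hye, Set.Subset.antisymm h2 h4⟩

section

variable [Finite G]

/-- `m` is a lower bound for the sizes of components -/
def LowerBound (D : Set G) (m : ℕ) : Prop := ∀ d ∈ D, ∀ x ∈ Dc D d, m ≤ (comp (Dc D d) x).ncard

theorem step1a {m : ℕ} (hm : LowerBound D m) {d e : G} (hd : d ∈ D) (he : e ∈ Dc D d)
    (hX : (comp (Dc D d) e).ncard = m) :
    comps (Dc D e) \ comps (Dc D d) = {comp (Dc D e) d} := by
  have hde := mem_Dc_symm hd he
  ext Y
  constructor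
  · rintro ⟨hY, hY'⟩
    by_contra hne
    have hne : Y ≠ comp (Dc D e) d := hne
    have hdY : d ∉ Y := fun h => hne (eq_comp_of_mem hY h)
    have h1 := (subset_or_mem he.1 hde hY hdY).resolve_right hY'
    have heY : e ∉ Y := fun h => (subset_of_mem_comps hY h).2.1 rfl
    have h2 : Y ⊂ comp (Dc D d) e := ⟨h1, fun h => heY (h self_mem_comp)⟩
    have h3 := Set.ncard_lt_ncard h2 (Set.toFinite _)
    obtain ⟨y, hy, rfl⟩ := hY
    have := hm e he.1 y hy
    omega
  · intro hY
    have hY : Y = comp (Dc D e) d := hY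
    subst hY
    refine ⟨comp_mem_comps hde, fun h => ?_⟩
    exact (subset_of_mem_comps h self_mem_comp).2.1 rfl

theorem step1b (hD : IsThreeTranspositionClass D) {m : ℕ} (hm : LowerBound D m) {d e : G}
    (hd : d ∈ D) (he : e ∈ Dc D d) (hX : (comp (Dc D d) e).ncard = m) :
    comps (Dc D d) \ comps (Dc D e) = {comp (Dc D d) e} := by
  have h1 := ncard_diff_eq hD hd he.1
  rw [step1a hm hd he hX, Set.ncard_singleton] at h1
  obtain ⟨a, ha⟩ := Set.ncard_eq_one.1 h1
  rw [ha]
  have h2 : comp (Dc D d) e ∈ comps (Dc D d) \ comps (Dc D e) := by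
    refine ⟨comp_mem_comps he, fun h => ?_⟩
    exact (subset_of_mem_comps h self_mem_comp).2.1 rfl
  rw [ha] at h2
  have h3 : comp (Dc D d) e = a := h2
  rw [h3]

theorem step1d (hD : IsThreeTranspositionClass D) {m : ℕ} (hm : LowerBound D m) {d e : G}
    (hd : d ∈ D) (he : e ∈ Dc D d) (hX : (comp (Dc D d) e).ncard = m) :
    Dc D e \ comp (Dc D e) d = Dc D d \ comp (Dc D d) e := by
  have ha := step1a hm hd he hX
  have hb := step1b hD hm hd he hX
  have hde := mem_Dc_symm hd he
  ext x
  constructor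
  · rintro ⟨hx, hx'⟩
    -- the component of `x` in `Dc e` is a component of `Dc d`
    have h1 : comp (Dc D e) x ∈ comps (Dc D d) := by
      by_contra h
      have h2 : comp (Dc D e) x ∈ comps (Dc D e) \ comps (Dc D d) := ⟨comp_mem_comps hx, h⟩
      rw [ha] at h2
      have h3 : comp (Dc D e) x = comp (Dc D e) d := h2
      exact hx' (h3 ▸ self_mem_comp)
    refine ⟨subset_of_mem_comps h1 self_mem_comp, fun h => ?_⟩
    have h2 := eq_comp_of_mem h1 (self_mem_comp (S := Dc D e) (x := x))
    have h3 := comp_eq he h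
    rw [h3] at h2
    have h4 : e ∈ comp (Dc D e) x := h2 ▸ self_mem_comp
    exact (comp_subset hx h4).2.1 rfl
  · rintro ⟨hx, hx'⟩
    have h1 : comp (Dc D d) x ∈ comps (Dc D e) := by
      by_contra h
      have h2 : comp (Dc D d) x ∈ comps (Dc D d) \ comps (Dc D e) := ⟨comp_mem_comps hx, h⟩
      rw [hb] at h2
      have h3 : comp (Dc D d) x = comp (Dc D d) e := h2
      exact hx' (h3 ▸ self_mem_comp)
    refine ⟨subset_of_mem_comps h1 self_mem_comp, fun h => ?_⟩
    have h2 := eq_comp_of_mem h1 (self_mem_comp (S := Dc D d) (x := x))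
    have h3 := comp_eq hde h
    rw [h3] at h2
    have h4 : d ∈ comp (Dc D d) x := h2 ▸ self_mem_comp
    exact (comp_subset hx h4).2.1 rfl

theorem step1c (hD : IsThreeTranspositionClass D) {m : ℕ} (hm : LowerBound D m) {d e : G}
    (hd : d ∈ D) (he : e ∈ Dc D d) (hX : (comp (Dc D d) e).ncard = m) :
    (comp (Dc D e) d).ncard = m := by
  have h1 := step1d hD hm hd he hX
  have hde := mem_Dc_symm hd he
  have h2 := Set.ncard_sdiff_add_ncard_of_subset (comp_subset he) (Set.toFinite _)
  have h3 := Set.ncard_sdiff_add_ncard_of_subset (comp_subset hde) (Set.toFinite _)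
  rw [h1] at h3
  have h4 := ncard_Dc_eq hD hd he.1
  omega

/-- Claim 2, first part: the smallest component of `Dc d` is not a component of `Dc r`. -/
theorem not_mem_comps (hsol : ∀ N : Subgroup G, N.Normal → Group.IsSolvable ↥N → N = ⊥)
    (hD : IsThreeTranspositionClass D) {m : ℕ} (hm : LowerBound D m) {d x r : G}
    (hd : d ∈ D) (hx : x ∈ Dc D d) (hX : (comp (Dc D d) x).ncard = m)
    (hr : r ∈ Dc D d) (hrX : r ∉ comp (Dc D d) x) : comp (Dc D d) x ∉ comps (Dc D r) := by
  intro hXr
  set X := comp (Dc D d) x with hXdef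
  have hXcomp : ∀ e ∈ X, comp (Dc D d) e = X := fun e he => comp_eq hx he
  have hXd : X ⊆ Dc D d := comp_subset hx
  have hR : ∀ e ∈ X, Dc D e \ comp (Dc D e) d = Dc D d \ X := by
    intro e he
    have := step1d hD hm hd (hXd he) (by rw [hXcomp e he]; exact hX)
    rwa [hXcomp e he] at this
  have hsz : ∀ e ∈ X, (comp (Dc D e) d).ncard = m := by
    intro e he
    exact step1c hD hm hd (hXd he) (by rw [hXcomp e he]; exact hX)
  have hdX : d ∉ X := fun h => (hXd h).2.1 rfl
  have hrR : r ∈ Dc D d \ X := ⟨hr, hrX⟩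
  -- (2.1)
  have h21 : ∀ e ∈ X, ∀ f ∈ comp (Dc D e) d, f ∈ Dc D r := by
    intro e he f hf
    have hde : d ∈ Dc D e := mem_Dc_symm hd (hXd he)
    have hfe : f ∈ Dc D e := comp_subset hde hf
    have hcf : comp (Dc D e) f = comp (Dc D e) d := comp_eq hde hf
    have h1 := step1d hD hm (hXd he).1 hfe (by rw [hcf]; exact hsz e he)
    rw [hcf, hR e he] at h1
    have h2 : r ∈ Dc D f := by
      have : r ∈ Dc D f \ comp (Dc D f) e := by rw [h1]; exact hrR
      exact this.1
    exact mem_Dc_symm hfe.1 h2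
  -- (2.2)
  have h22 : ∀ e ∈ X, ∀ f ∈ comp (Dc D e) d, f ∉ X := by
    intro e he f hf hfX
    have hde : d ∈ Dc D e := mem_Dc_symm hd (hXd he)
    have hcf : comp (Dc D e) f = comp (Dc D e) d := comp_eq hde hf
    have h1 : comp (Dc D e) f ⊆ Dc D r := by
      rw [hcf]; exact h21 e he
    have h2 := comp_subset_comp h1
    rw [← eq_comp_of_mem hXr hfX, hcf] at h2
    exact hdX (h2 self_mem_comp)
  -- (2.3)
  have h23 : ∀ e ∈ X, ∀ y ∈ X, ∀ f ∈ comp (Dc D e) d, Commute y f := by
    intro e he y hy f hf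
    by_contra h
    apply h22 e he f hf
    have h1 : X = comp (Dc D r) y := eq_comp_of_mem hXr hy
    rw [h1]
    exact mem_comp_of_not_commute self_mem_comp (h21 e he f hf) h
  -- (2.4)
  have h24 : ∀ e ∈ X, ∀ y ∈ X, comp (Dc D e) d ⊆ comp (Dc D y) d := by
    intro e he y hy
    apply comp_subset_comp
    intro f hf
    refine ⟨(h21 e he f hf).1, ?_, h23 e he y hy f hf⟩
    rintro rfl
    exact h22 e he f hf hy
  have h25 : ∀ e ∈ X, ∀ y ∈ X, e = y := by
    intro e he y hy
    apply eq_of_Dc_eq hsol hD (hXd he).1 (hXd hy).1 ⟨d, mem_Dc_symm hd (hXd he)⟩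
    have h1 : comp (Dc D e) d = comp (Dc D y) d :=
      Set.Subset.antisymm (h24 e he y hy) (h24 y hy e he)
    have h2 := hR e he
    have h3 := hR y hy
    have h4 : Dc D e = (Dc D e \ comp (Dc D e) d) ∪ comp (Dc D e) d :=
      (Set.sdiff_union_of_subset (comp_subset (mem_Dc_symm hd (hXd he)))).symm
    have h5 : Dc D y = (Dc D y \ comp (Dc D y) d) ∪ comp (Dc D y) d :=
      (Set.sdiff_union_of_subset (comp_subset (mem_Dc_symm hd (hXd hy)))).symm
    rw [h4, h5, h2, h3, h1]
  have hxX : x ∈ X := self_mem_comp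
  have hX1 : X = {x} := by
    ext y
    constructor
    · intro hy; exact h25 y hy x hxX
    · intro hy; rw [show y = x from hy]; exact hxX
  have hm1 : m = 1 := by rw [← hX, hX1, Set.ncard_singleton]
  have h26 : comp (Dc D x) d = {d} := by
    have h1 := hsz x hxX
    rw [hm1] at h1
    obtain ⟨a, ha⟩ := Set.ncard_eq_one.1 h1
    have h2 : d ∈ comp (Dc D x) d := self_mem_comp
    rw [ha] at h2
    have h3 : d = a := h2
    rw [ha, h3]
  -- commuting sets
  have hsub : {u | u ∈ D ∧ Commute x u} ⊆ {u | u ∈ D ∧ Commute d u} := by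
    rintro u ⟨hu, hxu⟩
    refine ⟨hu, ?_⟩
    by_cases hux : u = x
    · rw [hux]; exact hx.2.2
    · by_contra h
      have h1 : u ∈ comp (Dc D x) d :=
        mem_comp_of_not_commute self_mem_comp ⟨hu, hux, hxu⟩ h
      rw [h26] at h1
      have h2 : u = d := h1
      exact h (h2 ▸ Commute.refl u)
  have hcard : {u | u ∈ D ∧ Commute d u}.ncard = {u | u ∈ D ∧ Commute x u}.ncard := by
    obtain ⟨g, hg⟩ := exists_conj_of_class hD hd hx.1
    have hN := conjClosed_of_class hD
    have : {u | u ∈ D ∧ Commute x u} = cj g '' {u | u ∈ D ∧ Commute d u} := by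
      ext u
      constructor
      · rintro ⟨hu, hxu⟩
        refine ⟨cj g⁻¹ u, ⟨hN g⁻¹ u hu, ?_⟩, cj_cj_inv g u⟩
        rw [← commute_conj_iff g, hg]
        have : g * cj g⁻¹ u * g⁻¹ = u := cj_cj_inv g u
        rw [this]; exact hxu
      · rintro ⟨v, ⟨hv, hdv⟩, rfl⟩
        refine ⟨hN g v hv, ?_⟩
        rw [← hg]
        exact (commute_conj_iff g).2 hdv
    rw [this, Set.ncard_image_of_injective _ (cj_injective g)]
  have heq := Set.eq_of_subset_of_ncard_le hsub hcard.le (Set.toFinite _)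
  apply hx.2.1
  apply eq_of_noncomm_eq hsol hD hx.1 hd
  intro u hu
  constructor
  · intro h
    have : u ∈ {u | u ∈ D ∧ Commute x u} := ⟨hu, h⟩
    rw [heq] at this
    exact this.2
  · intro h
    have : u ∈ {u | u ∈ D ∧ Commute d u} := ⟨hu, h⟩
    rw [← heq] at this
    exact this.2

/-- Claim 2: all other components are larger. -/
theorem lt_ncard (hsol : ∀ N : Subgroup G, N.Normal → Group.IsSolvable ↥N → N = ⊥)
    (hD : IsThreeTranspositionClass D) {m : ℕ} (hm : LowerBound D m) {d x r : G}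
    (hd : d ∈ D) (hx : x ∈ Dc D d) (hX : (comp (Dc D d) x).ncard = m)
    (hr : r ∈ Dc D d) (hrX : r ∉ comp (Dc D d) x) : m < (comp (Dc D d) r).ncard := by
  have h1 := not_mem_comps hsol hD hm hd hx hX hr hrX
  have hXm : comp (Dc D d) x ∈ comps (Dc D d) \ comps (Dc D r) := ⟨comp_mem_comps hx, h1⟩
  have hRm : comp (Dc D d) r ∈ comps (Dc D d) \ comps (Dc D r) := by
    refine ⟨comp_mem_comps hr, fun h => ?_⟩
    exact (subset_of_mem_comps h self_mem_comp).2.1 rfl
  have hne : comp (Dc D d) x ≠ comp (Dc D d) r := by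
    intro h; apply hrX; rw [h]; exact self_mem_comp
  have h2 : 1 < (comps (Dc D d) \ comps (Dc D r)).ncard :=
    (Set.one_lt_ncard (Set.toFinite _)).2 ⟨_, hXm, _, hRm, hne⟩
  rw [ncard_diff_eq hD hd hr.1] at h2
  obtain ⟨Y, hY, hYne⟩ := Set.exists_ne_of_one_lt_ncard h2 (comp (Dc D r) d)
  have hdr := mem_Dc_symm hd hr
  have hdY : d ∉ Y := fun h => hYne (eq_comp_of_mem hY.1 h)
  have h3 := (subset_or_mem hr.1 hdr hY.1 hdY).resolve_right hY.2
  have hrY : r ∉ Y := fun h => (subset_of_mem_comps hY.1 h).2.1 rfl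
  have h4 : Y ⊂ comp (Dc D d) r := ⟨h3, fun h => hrY (h self_mem_comp)⟩
  have h5 := Set.ncard_lt_ncard h4 (Set.toFinite _)
  obtain ⟨y, hy, rfl⟩ := hY.1
  have := hm r hr.1 y hy
  omega

/-- the members of `Dc d` in components of size different from `m` -/
def rest (D : Set G) (m : ℕ) (d : G) : Set G := {x | x ∈ Dc D d ∧ (comp (Dc D d) x).ncard ≠ m}

theorem rest_eq (hsol : ∀ N : Subgroup G, N.Normal → Group.IsSolvable ↥N → N = ⊥)
    (hD : IsThreeTranspositionClass D) {m : ℕ} (hm : LowerBound D m) {d e : G}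
    (hd : d ∈ D) (he : e ∈ Dc D d) (hX : (comp (Dc D d) e).ncard = m) :
    rest D m d = Dc D d \ comp (Dc D d) e := by
  ext x
  constructor
  · rintro ⟨hx, hx'⟩
    refine ⟨hx, fun h => hx' ?_⟩
    rw [comp_eq he h]; exact hX
  · rintro ⟨hx, hx'⟩
    exact ⟨hx, (lt_ncard hsol hD hm hd he hX hx hx').ne'⟩

theorem rest_eq_rest (hsol : ∀ N : Subgroup G, N.Normal → Group.IsSolvable ↥N → N = ⊥)
    (hD : IsThreeTranspositionClass D) {m : ℕ} (hm : LowerBound D m) {d e : G}
    (hd : d ∈ D) (he : e ∈ Dc D d) (hX : (comp (Dc D d) e).ncard = m) :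
    rest D m d = rest D m e := by
  rw [rest_eq hsol hD hm hd he hX,
    rest_eq hsol hD hm he.1 (mem_Dc_symm hd he) (step1c hD hm hd he hX), step1d hD hm hd he hX]

/-- the elementary relation -/
def srel (D : Set G) (m : ℕ) (d e : G) : Prop := d ∈ D ∧ e ∈ Dc D d ∧ (comp (Dc D d) e).ncard = m

theorem comp_unique (hsol : ∀ N : Subgroup G, N.Normal → Group.IsSolvable ↥N → N = ⊥)
    (hD : IsThreeTranspositionClass D) {d x y : G} (hd : d ∈ D) (hx : x ∈ Dc D d) (hy : y ∈ Dc D d) :
    y ∈ comp (Dc D d) x := by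
  classical
  by_contra hcon
  have hN := conjClosed_of_class hD
  -- minimal component size in `Dc d`
  have hex : ∃ m : ℕ, ∃ z ∈ Dc D d, (comp (Dc D d) z).ncard = m := ⟨_, x, hx, rfl⟩
  set m := Nat.find hex with hmdef
  obtain ⟨z, hz, hzm⟩ := Nat.find_spec hex
  rw [← hmdef] at hzm
  have hmd : ∀ u ∈ Dc D d, m ≤ (comp (Dc D d) u).ncard := by
    intro u hu
    exact Nat.find_min' hex ⟨u, hu, rfl⟩
  have hm : LowerBound D m := by
    intro e he u hu
    obtain ⟨g, hg⟩ := exists_conj_of_class hD hd he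
    have hg' : e = cj g d := hg.symm
    rw [hg', Dc_image hN] at hu ⊢
    obtain ⟨v, hv, rfl⟩ := hu
    rw [comp_image, Set.ncard_image_of_injective _ (cj_injective g)]
    exact hmd v hv
  -- an element outside the component of `z`
  obtain ⟨t, ht, htz⟩ : ∃ t ∈ Dc D d, t ∉ comp (Dc D d) z := by
    by_contra h
    push Not at h
    apply hcon
    have h1 := h x hx
    have h2 := h y hy
    rw [comp_eq hz h1]; exact h2
  -- the block system
  have hrestR : ∀ a b : G, Relation.ReflTransGen (srel D m) a b → rest D m a = rest D m b := by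
    intro a b hab
    induction hab with
    | refl => rfl
    | tail _ h ih =>
      rw [ih]
      exact rest_eq_rest hsol hD hm h.1 h.2.1 h.2.2
  have hsymm : ∀ a b : G, srel D m a b → srel D m b a := by
    intro a b h
    exact ⟨h.2.1.1, mem_Dc_symm h.1 h.2.1, step1c hD hm h.1 h.2.1 h.2.2⟩
  have hr : BlockSystem D (Relation.ReflTransGen (srel D m)) :=
    { refl := fun _ _ => Relation.ReflTransGen.refl
      symm := by
        intro a _ b _ h
        induction h with
        | refl => exact Relation.ReflTransGen.refl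
        | @tail u v _ huv ih => exact Relation.ReflTransGen.head (hsymm _ _ huv) (ih huv.1)
      trans := fun _ _ _ _ _ _ h h' => h.trans h'
      conj := by
        intro g a _ b _ h
        induction h with
        | refl => exact Relation.ReflTransGen.refl
        | @tail u v _ huv ih =>
          refine Relation.ReflTransGen.tail (ih huv.1) ?_
          have e : g * u * g⁻¹ = cj g u := rfl
          have e' : g * v * g⁻¹ = cj g v := rfl
          refine ⟨hN g u huv.1, ?_, ?_⟩
          · rw [e, e', Dc_image hN]; exact ⟨v, huv.2.1, rfl⟩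
          · rw [e, e', Dc_image hN, comp_image, Set.ncard_image_of_injective _ (cj_injective g)]
            exact huv.2.2
      total := by
        intro a ha b _ u hu hab hau hcomm
        have hua : u ≠ a := by
          rintro rfl; exact hau Relation.ReflTransGen.refl
        have h1 : u ∈ Dc D a := ⟨hu, hua, hcomm.symm⟩
        have h2 : (comp (Dc D a) u).ncard ≠ m := by
          intro h
          exact hau (Relation.ReflTransGen.single ⟨ha, h1, h⟩)
        have h3 : u ∈ rest D m a := ⟨h1, h2⟩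
        rw [hrestR a b hab] at h3
        exact h3.1.2.2.symm }
  have htrest : t ∈ rest D m d := by
    rw [rest_eq hsol hD hm hd hz hzm]; exact ⟨ht, htz⟩
  have hdt : ¬ Relation.ReflTransGen (srel D m) d t := by
    intro h
    rw [hrestR d t h] at htrest
    exact htrest.1.2.1 rfl
  have hdz : Relation.ReflTransGen (srel D m) d z := Relation.ReflTransGen.single ⟨hd, hz, hzm⟩
  have := eq_of_rel hsol hD hr hd ht.1 hdt ht.2.2 hd hz.1 hdz
  exact hz.2.1 this.symm

/-- Fischer's transitivity theorem. -/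
theorem Dc_conj (hsol : ∀ N : Subgroup G, N.Normal → Group.IsSolvable ↥N → N = ⊥)
    (hD : IsThreeTranspositionClass D) {d x y : G} (hd : d ∈ D) (hx : x ∈ Dc D d) (hy : y ∈ Dc D d) :
    ∃ g ∈ Subgroup.closure (Dc D d), g * x * g⁻¹ = y := by
  have h := mem_comp.1 (comp_unique hsol hD hd hx hy)
  clear hy
  induction h with
  | refl => exact ⟨1, one_mem _, by simp⟩
  | @tail u v h1 h2 ih =>
    obtain ⟨g, hg, hgu⟩ := ih
    have hu : u ∈ Dc D d := comp_subset hx h1
    refine ⟨u * v * g, mul_mem (mul_mem (Subgroup.subset_closure hu) (Subgroup.subset_closure h2.1)) hg, ?_⟩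
    have e : u * v * g * x * (u * v * g)⁻¹ = (u * v) * (g * x * g⁻¹) * (u * v)⁻¹ := by group
    rw [e, hgu]
    exact conj_of_not_commute hD.1 hu.1 h2.1.1 h2.2

end

end Cfsg.Agent.ThreeTrans375.Transitive
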